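import Groth.Prelude.Def_W4c6equivkfinstabCyc
import Mathlib

/-!
# Cyclotomic decomposition of group rings of finite abelian groups
-/

universe u v

open Polynomial W4c6equivkfinstab

noncomputable section

namespace GrothLib.GrpAlgCyc

section Poly

variable (R : Type u) [CommRing R]

/-- `Φ_n` divides `1 + X^d + ⋯ + X^{d(e-1)}` for `n = d e`, `1 < e` -/
theorem cyclotomic_dvd_geom {n d e : ℕ} (hde : d * e = n) (hd : 0 < d) (he : 1 < e) :
    cyclotomic n R ∣ ∑ j ∈ Finset.range e, (X : R[X]) ^ (d * j) := by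
  have hdn : d ∈ n.properDivisors :=
    Nat.mem_properDivisors.2 ⟨⟨e, hde.symm⟩, by rw [← hde]; exact lt_mul_right hd he⟩
  obtain ⟨c, hc⟩ := X_pow_sub_one_mul_cyclotomic_dvd_X_pow_sub_one_of_dvd R hdn
  have hgeom : (∑ j ∈ Finset.range e, (X : R[X]) ^ (d * j)) * (X ^ d - 1) = X ^ n - 1 := by
    simp only [pow_mul]
    rw [geom_sum_mul, ← pow_mul, hde]
  refine ⟨c, ?_⟩
  have hreg : IsRegular ((X : R[X]) ^ d - 1) := (monic_X_pow_sub_C 1 hd.ne' : (X ^ d - C (1 : R)).Monic).isRegular
  refine hreg.right ?_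
  show (∑ j ∈ Finset.range e, (X : R[X]) ^ (d * j)) * (X ^ d - 1) = cyclotomic n R * c * (X ^ d - 1)
  rw [hgeom, hc]; ring

/-- `X^n - 1` divides `Φ_n · ∏_{p ∣ n} (X^{n/p} - 1)` -/
theorem X_pow_sub_one_dvd {n : ℕ} (hn : 0 < n) :
    (X : R[X]) ^ n - 1 ∣ cyclotomic n R * ∏ q ∈ n.primeFactors, (X ^ (n / q) - 1) := by
  classical
  rw [← prod_cyclotomic_eq_X_pow_sub_one hn R, ← Finset.insert_erase (Nat.mem_divisors_self n hn.ne'),
    Finset.prod_insert (Finset.notMem_erase _ _)]
  refine mul_dvd_mul_left _ ?_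
  have hmaps : ∀ d ∈ n.divisors.erase n, (n / d).minFac ∈ n.primeFactors := fun d hd => by
    obtain ⟨hdne, hd⟩ := Finset.mem_erase.1 hd
    have hd' := (Nat.mem_divisors.1 hd).1
    have hne : n / d ≠ 1 := fun h => hdne (by
      have := Nat.div_mul_cancel hd'; rw [h, one_mul] at this; exact this)
    exact Nat.mem_primeFactors.2 ⟨Nat.minFac_prime hne, (Nat.minFac_dvd _).trans (Nat.div_dvd_of_dvd hd'), hn.ne'⟩
  rw [← Finset.prod_fiberwise_of_maps_to hmaps]
  refine Finset.prod_dvd_prod_of_dvd _ _ fun q hq => ?_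
  have hq' := Nat.mem_primeFactors.1 hq
  have hpos : 0 < n / q := Nat.div_pos (Nat.le_of_dvd hn hq'.2.1) hq'.1.pos
  rw [← prod_cyclotomic_eq_X_pow_sub_one hpos R]
  refine Finset.prod_dvd_prod_of_subset _ _ _ fun d hd => ?_
  obtain ⟨hd1, hd2⟩ := Finset.mem_filter.1 hd
  have hd' := (Nat.mem_divisors.1 (Finset.mem_erase.1 hd1).2).1
  refine Nat.mem_divisors.2 ⟨?_, hpos.ne'⟩
  have h : q ∣ n / d := hd2 ▸ Nat.minFac_dvd _
  rw [Nat.dvd_div_iff_mul_dvd hq'.2.1]
  have := Nat.mul_dvd_mul_right h d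
  rwa [Nat.div_mul_cancel hd'] at this

end Poly

variable (Λ : Type u) [CommRing Λ] {C : Type v} [AddCommGroup C]

/-- the group element as an element of the group ring -/
def el (a : C) : AddMonoidAlgebra Λ C := AddMonoidAlgebra.single a (1 : Λ)

theorem el_pow (a : C) (j : ℕ) : el Λ a ^ j = el Λ (j • a) := by
  rw [el, AddMonoidAlgebra.single_pow, one_pow]; rfl

theorem el_mul (a b : C) : el Λ a * el Λ b = el Λ (a + b) := by
  rw [el, el, AddMonoidAlgebra.single_mul_single, one_mul]; rfl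

theorem el_zero : el Λ (0 : C) = 1 := rfl

theorem cyclotomic_mem {g : C} (hg : AddSubgroup.zmultiples g = ⊤) :
    aeval (el Λ g) (cyclotomic (Nat.card C) Λ) ∈ cycIdeal Λ C :=
  Ideal.subset_span ⟨g, hg, rfl⟩

theorem nat_card_zmultiples_le [Finite C] [IsAddCyclic C] (e : ℕ) (he : 0 < e) :
    Nat.card {a : C // e • a = 0} ≤ e := by
  classical
  haveI := Fintype.ofFinite C
  rw [Nat.card_eq_fintype_card, Fintype.card_subtype]
  exact IsAddCyclic.card_nsmul_eq_zero_le he

theorem sum_subgroup_mem [Finite C] [IsAddCyclic C] (H : AddSubgroup C) (hH : H ≠ ⊥) [Fintype H] :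
    ∑ h : H, el Λ (h : C) ∈ cycIdeal Λ C := by
  classical
  obtain ⟨g, hg⟩ := exists_zsmul_surjective C
  have hg' : AddSubgroup.zmultiples g = ⊤ := by
    rw [eq_top_iff]; intro a _; exact hg a
  set n := Nat.card C with hn
  have hnpos : 0 < n := Nat.card_pos
  set e := Nat.card H with hedef
  have hedvd : e ∣ n := AddSubgroup.card_addSubgroup_dvd_card H
  have he1 : 1 < e := H.one_lt_card_iff_ne_bot.2 hH
  set d := n / e with hddef
  have hde : d * e = n := Nat.div_mul_cancel hedvd
  have hd : 0 < d := Nat.pos_of_ne_zero fun h => by rw [h, zero_mul] at hde; omega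
  have hgo : addOrderOf g = n := by rw [← Nat.card_zmultiples, hg', AddSubgroup.card_top]
  have hinj : ∀ i j : ℕ, i < e → j < e → (d * i) • g = (d * j) • g → i = j := fun i j hi hj h => by
    have h' := (nsmul_eq_nsmul_iff_modEq).1 h
    rw [hgo] at h'
    have hi' : d * i < n := hde ▸ Nat.mul_lt_mul_of_pos_left hi hd
    have hj' : d * j < n := hde ▸ Nat.mul_lt_mul_of_pos_left hj hd
    exact Nat.eq_of_mul_eq_mul_left hd (Nat.ModEq.eq_of_lt_of_lt h' hi' hj')
  have hmem : ∀ j : ℕ, (d * j) • g ∈ H := fun j => by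
    -- both `H` and the multiples of `d • g` are killed by `e`, and there are at most `e` such elements
    let f : H → {a : C // e • a = 0} := fun h => ⟨h, by
      have := card_nsmul_eq_zero' (G := H) (x := h)
      exact congrArg Subtype.val this⟩
    have hf : Function.Injective f := fun a b h => Subtype.ext (congrArg (fun z => (z.1 : C)) h)
    have hcard : Nat.card {a : C // e • a = 0} ≤ Nat.card H := nat_card_zmultiples_le e (by omega)
    haveI := Fintype.ofFinite {a : C // e • a = 0}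
    have hb : Function.Bijective f := by
      refine (Fintype.bijective_iff_injective_and_card f).2 ⟨hf, le_antisymm (Fintype.card_le_of_injective f hf) ?_⟩
      rw [← Nat.card_eq_fintype_card, ← Nat.card_eq_fintype_card]; exact hcard
    obtain ⟨h, hh⟩ := hb.2 ⟨(d * j) • g, by
      rw [← mul_nsmul', show e * (d * j) = j * n by rw [← hde]; ring, mul_nsmul', ← hgo, addOrderOf_nsmul_eq_zero, nsmul_zero]⟩
    rw [show (d * j) • g = (h : C) from (congrArg Subtype.val hh).symm]
    exact h.2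
  have hsum : ∑ h : H, el Λ (h : C) = aeval (el Λ g) (∑ j ∈ Finset.range e, (X : Λ[X]) ^ (d * j)) := by
    simp only [map_sum, map_pow, aeval_X, el_pow]
    let φ : Fin e → H := fun j => ⟨(d * (j : ℕ)) • g, hmem j⟩
    have hφ : Function.Bijective φ := by
      refine (Fintype.bijective_iff_injective_and_card φ).2 ⟨fun i j h => Fin.ext (hinj i j i.2 j.2 (congrArg Subtype.val h)), ?_⟩
      rw [Fintype.card_fin, hedef, Nat.card_eq_fintype_card]
    rw [← Fintype.sum_bijective φ hφ (fun j => el Λ ((d * (j : ℕ)) • g)) _ (fun j => rfl), Fin.sum_univ_eq_sum_range (fun j => el Λ ((d * j) • g))]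
  obtain ⟨c, hc⟩ := cyclotomic_dvd_geom Λ hde hd he1
  rw [hsum, hc, map_mul]
  exact Ideal.mul_mem_right _ _ (cyclotomic_mem Λ hg')

variable (M : Type v) [AddCommGroup M]

theorem quotMap_el (B : AddSubgroup M) (a : M) : quotMap Λ M B (el Λ a) = el Λ (a : M ⧸ B) := by
  rw [el, quotMap]
  exact AddMonoidAlgebra.mapDomain_single

theorem quotMap_surjective (B : AddSubgroup M) : Function.Surjective (quotMap Λ M B) := fun y => by
  induction y using AddMonoidAlgebra.induction_on with
  | of q => exact ⟨el Λ q.out, by rw [quotMap_el, QuotientAddGroup.out_eq']; rfl⟩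
  | add x y hx hy =>
    obtain ⟨a, rfl⟩ := hx
    obtain ⟨b, rfl⟩ := hy
    exact ⟨a + b, map_add _ _ _⟩
  | smul r x hx =>
    obtain ⟨a, rfl⟩ := hx
    refine ⟨AddMonoidAlgebra.single 0 r * a, ?_⟩
    rw [map_mul, quotMap, Algebra.smul_def]
    congr 1
    exact AddMonoidAlgebra.mapDomain_single

variable {M}

theorem exists_sep (B₀ B : AddSubgroup M) [B.FiniteIndex] [IsAddCyclic (M ⧸ B)] (h : ¬ B₀ ≤ B)
    (hu : IsUnit ((B.index : ℕ) : Λ)) :
    ∃ s, cycQuotMap Λ M B s = 0 ∧ quotMap Λ M B₀ s = 1 := by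
  classical
  let H : AddSubgroup (M ⧸ B) := B₀.map (QuotientAddGroup.mk' B)
  haveI : Fintype H := Fintype.ofFinite H
  have hH : H ≠ ⊥ := fun hb => h fun b hb' => by
    have : ((b : M ⧸ B)) ∈ H := ⟨b, hb', rfl⟩
    rw [hb, AddSubgroup.mem_bot] at this
    exact (QuotientAddGroup.eq_zero_iff b).1 this
  have hc : IsUnit ((Fintype.card H : ℕ) : Λ) := isUnit_of_dvd_unit (Nat.cast_dvd_cast (by
    rw [← Nat.card_eq_fintype_card, AddSubgroup.index_eq_card]; exact AddSubgroup.card_addSubgroup_dvd_card H)) hu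
  obtain ⟨c, hc'⟩ := hc.exists_left_inv
  choose l hl using fun x : H => x.2
  refine ⟨AddMonoidAlgebra.single 0 c * ∑ x : H, el Λ (l x), ?_, ?_⟩
  · rw [cycQuotMap, RingHom.comp_apply, map_mul, map_sum]
    simp only [quotMap_el]
    rw [Finset.sum_congr rfl fun x _ => congrArg (el Λ) (show ((l x : M) : M ⧸ B) = (x : M ⧸ B) from (hl x).2)]
    rw [Ideal.Quotient.eq_zero_iff_mem]
    exact Ideal.mul_mem_left _ _ (sum_subgroup_mem Λ H hH)
  · rw [map_mul, map_sum]
    simp only [quotMap_el]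
    rw [Finset.sum_congr rfl fun x _ => congrArg (el Λ) ((QuotientAddGroup.eq_zero_iff (l x)).2 (hl x).1)]
    rw [el_zero, Finset.sum_const, Finset.card_univ, nsmul_one, ← map_natCast (AddMonoidAlgebra.singleZeroRingHom : Λ →+* _)]
    rw [show quotMap Λ M B₀ (AddMonoidAlgebra.single 0 c) = (AddMonoidAlgebra.singleZeroRingHom : Λ →+* _) c from AddMonoidAlgebra.mapDomain_single,
      ← map_mul, hc', map_one]

theorem cycQuotMap_eq_of_quotMap_eq {B : AddSubgroup M} {x y} (h : quotMap Λ M B x = quotMap Λ M B y) :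
    cycQuotMap Λ M B x = cycQuotMap Λ M B y := congrArg (Ideal.Quotient.mk _) h

theorem exists_loc_annihilator (B B' : AddSubgroup M) [B.FiniteIndex] [B'.FiniteIndex] [IsAddCyclic (M ⧸ B)]
    [IsAddCyclic (M ⧸ B')] (h : B ≠ B') (hu : IsUnit ((B.index : ℕ) : Λ)) (hu' : IsUnit ((B'.index : ℕ) : Λ)) :
    ∃ s, cycQuotMap Λ M B' s = 1 ∧ cycQuotMap Λ M B s = 0 := by
  by_cases hle : B' ≤ B
  · have hle' : ¬ B ≤ B' := fun h' => h (le_antisymm h' hle)
    obtain ⟨s, hs, hs'⟩ := exists_sep Λ B B' hle' hu'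
    refine ⟨1 - s, by rw [map_sub, map_one, hs, sub_zero], ?_⟩
    rw [map_sub, map_one, cycQuotMap_eq_of_quotMap_eq Λ (hs'.trans (map_one _).symm), map_one, sub_self]
  · obtain ⟨s, hs, hs'⟩ := exists_sep Λ B' B hle hu
    exact ⟨s, by rw [cycQuotMap_eq_of_quotMap_eq Λ (hs'.trans (map_one _).symm), map_one], hs⟩

theorem exists_sep_quot (B₀ B : AddSubgroup M) [B.FiniteIndex] [IsAddCyclic (M ⧸ B)] (h : ¬ B₀ ≤ B)
    (hu : IsUnit ((B.index : ℕ) : Λ)) :
    ∃ s, cycQuotMap Λ M B s = 1 ∧ quotMap Λ M B₀ s = 0 := by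
  obtain ⟨s, hs, hs'⟩ := exists_sep Λ B₀ B h hu
  exact ⟨1 - s, by rw [map_sub, map_one, hs, sub_zero], by rw [map_sub, map_one, hs', sub_self]⟩

/-- killing by the geometric sum -/
theorem geom_mul_eq_zero (B₀ : AddSubgroup M) (x : M) (q : ℕ) (hq : q • x ∈ B₀) {y : AddMonoidAlgebra Λ M}
    (hy : quotMap Λ M (B₀ ⊔ AddSubgroup.zmultiples x) y = 0) :
    (∑ j ∈ Finset.range q, el Λ (x : M ⧸ B₀) ^ j) * quotMap Λ M B₀ y = 0 := by
  classical
  set H := B₀ ⊔ AddSubgroup.zmultiples x
  set t := el Λ (x : M ⧸ B₀)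
  set G := ∑ j ∈ Finset.range q, t ^ j
  have ht : t ^ q = 1 := by
    rw [el_pow, show q • ((x : M ⧸ B₀)) = ((q • x : M) : M ⧸ B₀) from rfl, (QuotientAddGroup.eq_zero_iff _).2 hq, el_zero]
  have hGt : G * t = G := by
    have h := geom_sum_mul t q
    rw [ht, sub_self, mul_sub, mul_one, sub_eq_zero] at h
    exact h
  let N := AddSubgroup.map (QuotientAddGroup.mk' B₀) H
  have hstab : ∀ h ∈ H, G * el Λ (h : M ⧸ B₀) = G := by
    let S : AddSubgroup M :=
      { carrier := {a | G * el Λ (a : M ⧸ B₀) = G}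
        zero_mem' := by
          show G * el Λ ((0 : M) : M ⧸ B₀) = G
          rw [QuotientAddGroup.mk_zero, el_zero, mul_one]
        add_mem' := fun {a b} ha hb => by
          show G * el Λ ((a + b : M) : M ⧸ B₀) = G
          rw [QuotientAddGroup.mk_add, ← el_mul, ← mul_assoc, ha, hb]
        neg_mem' := fun {a} ha => by
          show G * el Λ ((-a : M) : M ⧸ B₀) = G
          conv_lhs => rw [← show G * el Λ (a : M ⧸ B₀) = G from ha]
          rw [mul_assoc, el_mul, QuotientAddGroup.mk_neg, add_neg_cancel, el_zero, mul_one] }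
    refine (sup_le (fun b hb => ?_) (AddSubgroup.zmultiples_le.2 hGt) : H ≤ S)
    show G * el Λ (b : M ⧸ B₀) = G
    rw [(QuotientAddGroup.eq_zero_iff b).2 hb, el_zero, mul_one]
  let L : AddMonoidAlgebra Λ (M ⧸ H) →+ AddMonoidAlgebra Λ (M ⧸ B₀) :=
    (Finsupp.liftAddHom fun c : M ⧸ H => (AddMonoidHom.mulLeft (G * el Λ ((c.out : M) : M ⧸ B₀))).comp
      (AddMonoidAlgebra.singleZeroRingHom : Λ →+* AddMonoidAlgebra Λ (M ⧸ B₀)).toAddMonoidHom).comp
      (AddMonoidAlgebra.coeffAddEquiv).toAddMonoidHom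
  have hL : ∀ z, L (quotMap Λ M H z) = G * quotMap Λ M B₀ z := fun z => by
    induction z using AddMonoidAlgebra.induction_linear with
    | zero => simp
    | add a b ha hb => simp only [map_add, ha, hb, mul_add]
    | single a r =>
      rw [quotMap, quotMap]
      simp only [AddMonoidAlgebra.mapDomainRingHom_apply, AddMonoidAlgebra.mapDomain_single]
      show (Finsupp.liftAddHom _) (Finsupp.single _ r) = _
      rw [Finsupp.liftAddHom_apply_single]
      show G * el Λ _ * AddMonoidAlgebra.single 0 r = _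
      obtain ⟨h, hh⟩ : ∃ h : H, ((QuotientAddGroup.mk' H a).out : M) = a + h :=
        QuotientAddGroup.mk_out_eq_mul H a
      rw [hh, QuotientAddGroup.mk_add, add_comm (a : M ⧸ B₀), ← el_mul, ← mul_assoc G, hstab h h.2, mul_assoc, el,
        AddMonoidAlgebra.single_mul_single, add_zero, one_mul]
      rfl
  rw [← hL, hy, map_zero]

theorem isAddCyclic_of_primes {A : Type v} [AddCommGroup A] [Finite A]
    (h : ∀ q : ℕ, q.Prime → Nat.card {a : A // q • a = 0} ≤ q) : IsAddCyclic A := by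
  classical
  have key : ∀ n : ℕ, 0 < n → Nat.card {a : A // n • a = 0} ≤ n := by
    intro n
    induction n using Nat.strong_induction_on with
    | h n ih =>
      intro hn
      rcases eq_or_ne n 1 with rfl | hn1
      · haveI : Subsingleton {a : A // 1 • a = 0} := ⟨fun a b => Subtype.ext (by
          have ha := a.2; have hb := b.2; rw [one_smul] at ha hb; rw [ha, hb])⟩
        exact Finite.card_le_one_iff_subsingleton.2 inferInstance
      · set q := n.minFac with hq
        have hqp : q.Prime := Nat.minFac_prime hn1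
        obtain ⟨m, hm⟩ := Nat.minFac_dvd n
        rw [← hq] at hm
        have hm0 : 0 < m := Nat.pos_of_ne_zero fun h0 => by rw [h0, mul_zero] at hm; omega
        have hmn : m < n := by rw [hm]; exact lt_mul_left hm0 hqp.one_lt
        let f : (nsmulAddMonoidHom (α := A) n).ker →+ (nsmulAddMonoidHom (α := A) m).ker :=
          ((nsmulAddMonoidHom (α := A) q).comp (nsmulAddMonoidHom (α := A) n).ker.subtype).codRestrict _ fun a => by
            show m • (q • (a : A)) = 0
            rw [← mul_nsmul', mul_comm, ← hm]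
            exact a.2
        have h1 : Nat.card f.ker ≤ q := by
          refine le_trans (Nat.card_le_card_of_injective (fun a : f.ker => (⟨((a : _) : A), congrArg Subtype.val a.2⟩ : {a : A // q • a = 0}))
            fun a b hab => ?_) (h q hqp)
          exact Subtype.ext (Subtype.ext (congrArg (fun z : {a : A // q • a = 0} => (z : A)) hab))
        have h2 : Nat.card f.range ≤ m := le_trans (Nat.card_le_card_of_injective _ Subtype.val_injective) (ih m hmn hm0)
        have h3 := AddSubgroup.card_eq_card_quotient_mul_card_addSubgroup f.ker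
        rw [Nat.card_congr (QuotientAddGroup.quotientKerEquivRange f).toEquiv] at h3
        calc Nat.card {a : A // n • a = 0} = Nat.card f.range * Nat.card f.ker := h3
          _ ≤ m * q := Nat.mul_le_mul h2 h1
          _ = n := by rw [hm, mul_comm]
  haveI := Fintype.ofFinite A
  refine isAddCyclic_of_card_nsmul_eq_zero_le fun n hn => ?_
  have h1 := key n hn
  rwa [Nat.card_eq_fintype_card, Fintype.card_subtype] at h1

/-- an element killed by all cyclotomic quotients above `B₀` vanishes in `Λ[M/B₀]` -/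
theorem quotMap_eq_zero (B₀ : AddSubgroup M) [B₀.FiniteIndex] (hu : IsUnit ((B₀.index : ℕ) : Λ))
    (y : AddMonoidAlgebra Λ M)
    (hy : ∀ B : AddSubgroup M, B₀ ≤ B → IsAddCyclic (M ⧸ B) → cycQuotMap Λ M B y = 0) :
    quotMap Λ M B₀ y = 0 := by
  classical
  suffices key : ∀ (n : ℕ) (B₀ : AddSubgroup M), B₀.index = n → B₀.FiniteIndex → IsUnit ((B₀.index : ℕ) : Λ) →
      (∀ B : AddSubgroup M, B₀ ≤ B → IsAddCyclic (M ⧸ B) → cycQuotMap Λ M B y = 0) → quotMap Λ M B₀ y = 0 from
    key _ B₀ rfl inferInstance hu hy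
  intro n
  induction n using Nat.strong_induction_on with
  | h n ih =>
    intro B₀ hB₀ hfin hu hy
    haveI := hfin
    -- one step up
    have hup : ∀ (x : M) (q : ℕ), q • x ∈ B₀ → x ∉ B₀ →
        (∑ j ∈ Finset.range q, el Λ (x : M ⧸ B₀) ^ j) * quotMap Λ M B₀ y = 0 := fun x q hq hx => by
      refine geom_mul_eq_zero Λ B₀ x q hq ?_
      have hlt : B₀ < B₀ ⊔ AddSubgroup.zmultiples x := lt_of_le_of_ne le_sup_left fun h =>
        hx (h ▸ AddSubgroup.mem_sup_right (AddSubgroup.mem_zmultiples x))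
      haveI : (B₀ ⊔ AddSubgroup.zmultiples x).FiniteIndex := AddSubgroup.finiteIndex_of_le hlt.le
      exact ih _ (hB₀ ▸ AddSubgroup.index_strictAnti hlt) _ rfl inferInstance
        (isUnit_of_dvd_unit (Nat.cast_dvd_cast (AddSubgroup.index_dvd_of_le hlt.le)) hu)
        fun B hB hc => hy B (hlt.le.trans hB) hc
    set z := quotMap Λ M B₀ y
    have hprime : ∀ q : ℕ, q.Prime → q ∣ B₀.index → IsUnit ((q : ℕ) : AddMonoidAlgebra Λ (M ⧸ B₀)) := fun q _ hq => by
      have := (isUnit_of_dvd_unit (Nat.cast_dvd_cast hq) hu).map (AddMonoidAlgebra.singleZeroRingHom : Λ →+* AddMonoidAlgebra Λ (M ⧸ B₀))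
      rwa [map_natCast] at this
    by_cases hc : IsAddCyclic (M ⧸ B₀)
    · -- the cyclic case
      have hmem : z ∈ cycIdeal Λ (M ⧸ B₀) := Ideal.Quotient.eq_zero_iff_mem.1 (hy B₀ le_rfl hc)
      set N := Nat.card (M ⧸ B₀) with hN
      have hNpos : 0 < N := Nat.card_pos
      have hNi : N = B₀.index := (AddSubgroup.index_eq_card B₀).symm
      obtain ⟨g, hg⟩ := exists_zsmul_surjective (M ⧸ B₀)
      have hg' : AddSubgroup.zmultiples g = ⊤ := by rw [eq_top_iff]; intro a _; exact hg a
      have hgo : addOrderOf g = N := by rw [← Nat.card_zmultiples, hg', AddSubgroup.card_top]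
      -- `z` is a multiple of every `[(N/q) g] - 1`
      have hmul : ∀ q ∈ N.primeFactors, ∃ w, (el Λ g ^ (N / q) - 1) * w * z = z := fun q hq => by
        have hq' := Nat.mem_primeFactors.1 hq
        obtain ⟨x, hx⟩ := QuotientAddGroup.mk_surjective ((N / q) • g)
        have hqx : q • x ∈ B₀ := by
          rw [← QuotientAddGroup.eq_zero_iff, QuotientAddGroup.mk_nsmul, hx, ← mul_nsmul', Nat.mul_div_cancel' hq'.2.1,
            ← hgo, addOrderOf_nsmul_eq_zero]
        have hxn : x ∉ B₀ := fun hh => by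
          rw [← QuotientAddGroup.eq_zero_iff, hx, ← addOrderOf_dvd_iff_nsmul_eq_zero, hgo] at hh
          exact (Nat.le_of_dvd (Nat.div_pos (Nat.le_of_dvd hNpos hq'.2.1) hq'.1.pos) hh).not_gt (Nat.div_lt_self hNpos hq'.1.one_lt)
        have h0 := hup x q hqx hxn
        rw [hx, ← el_pow] at h0
        set t := el Λ g ^ (N / q)
        have hsum : ∃ w, (∑ j ∈ Finset.range q, t ^ j) = (q : AddMonoidAlgebra Λ (M ⧸ B₀)) + (t - 1) * w := by
          refine ⟨∑ j ∈ Finset.range q, ∑ i ∈ Finset.range j, t ^ i, ?_⟩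
          rw [Finset.mul_sum]
          simp only [mul_geom_sum]
          rw [Finset.sum_sub_distrib, Finset.sum_const, Finset.card_range, nsmul_one]
          ring
        obtain ⟨w, hw⟩ := hsum
        obtain ⟨c, hc'⟩ := (hprime q hq'.1 (hNi ▸ hq'.2.1)).exists_left_inv
        refine ⟨-(c * w), ?_⟩
        rw [hw] at h0
        linear_combination (-c) * h0 + z * hc'
      have hprod : ∀ s : Finset ℕ, s ⊆ N.primeFactors → ∃ w, (∏ q ∈ s, (el Λ g ^ (N / q) - 1)) * w * z = z := fun s => by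
        induction s using Finset.induction with
        | empty => exact fun _ => ⟨1, by rw [Finset.prod_empty, one_mul, one_mul]⟩
        | @insert q s hqs ih =>
          intro hs
          obtain ⟨w, hw⟩ := ih fun a ha => hs (Finset.mem_insert_of_mem ha)
          obtain ⟨w', hw'⟩ := hmul q (hs (Finset.mem_insert_self _ _))
          refine ⟨w' * w, ?_⟩
          rw [Finset.prod_insert hqs]
          linear_combination (∏ q ∈ s, (el Λ g ^ (N / q) - 1)) * w * hw' + hw
      obtain ⟨w, hw⟩ := hprod _ subset_rfl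
      -- the ideal is killed by the product
      have hkill : ∀ a ∈ cycIdeal Λ (M ⧸ B₀), (∏ q ∈ N.primeFactors, (el Λ g ^ (N / q) - 1)) * a = 0 := fun a ha => by
        induction ha using Submodule.span_induction with
        | mem a ha =>
          obtain ⟨g', hg'', rfl⟩ := ha
          obtain ⟨k, hk⟩ := AddSubgroup.mem_zmultiples_iff.1 (hg''.symm ▸ AddSubgroup.mem_top g : g ∈ AddSubgroup.zmultiples g')
          obtain ⟨m, hm⟩ : ∃ m : ℕ, m • g' = g := by
            have h1 : g ∈ AddSubgroup.zmultiples g' := hg''.symm ▸ AddSubgroup.mem_top g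
            exact (AddSubmonoid.mem_multiples_iff _ _).1 (mem_multiples_iff_mem_zmultiples.2 h1)
          have hg'o : addOrderOf g' = N := by rw [← Nat.card_zmultiples, hg'', AddSubgroup.card_top]
          set t' := el Λ g'
          have ht : el Λ g = t' ^ m := by rw [el_pow, hm]
          have hN1 : t' ^ N = 1 := by rw [el_pow, ← hg'o, addOrderOf_nsmul_eq_zero, el_zero]
          obtain ⟨c, hc'⟩ := X_pow_sub_one_dvd Λ hNpos
          have h0 := congrArg (aeval t') hc'
          simp only [map_mul, map_prod, map_sub, map_pow, aeval_X, map_one, hN1, sub_self, zero_mul] at h0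
          have hdvd : (∏ q ∈ N.primeFactors, (t' ^ (N / q) - 1)) ∣ ∏ q ∈ N.primeFactors, (el Λ g ^ (N / q) - 1) :=
            Finset.prod_dvd_prod_of_dvd _ _ fun q _ => by
              rw [ht, ← pow_mul, mul_comm m, pow_mul]
              exact sub_one_dvd_pow_sub_one _ _
          obtain ⟨e, he⟩ := hdvd
          rw [he]
          show (∏ q ∈ N.primeFactors, (t' ^ (N / q) - 1)) * e * aeval t' (cyclotomic N Λ) = 0
          linear_combination e * h0
        | zero => rw [mul_zero]
        | add a b _ _ ha hb => rw [mul_add, ha, hb, add_zero]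
        | smul r a _ ha => rw [smul_eq_mul, mul_left_comm, ha, mul_zero]
      linear_combination w * hkill z hmem - hw
    · -- the non cyclic case
      haveI : Finite (M ⧸ B₀) := inferInstance
      obtain ⟨q, hq, hqc⟩ : ∃ q : ℕ, q.Prime ∧ q < Nat.card {a : M ⧸ B₀ // q • a = 0} := by
        by_contra hcon
        exact hc (isAddCyclic_of_primes fun q hq => not_lt.1 fun hlt => hcon ⟨q, hq, hlt⟩)
      obtain ⟨a, ha⟩ : ∃ a : {a : M ⧸ B₀ // q • a = 0}, (a : M ⧸ B₀) ≠ 0 := by
        by_contra hcon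
        haveI : Subsingleton {a : M ⧸ B₀ // q • a = 0} := ⟨fun u v => Subtype.ext
          ((not_ne_iff.1 fun hh => hcon ⟨u, hh⟩).trans (not_ne_iff.1 fun hh => hcon ⟨v, hh⟩).symm)⟩
        have := Finite.card_le_one_iff_subsingleton.2 (inferInstance : Subsingleton {a : M ⧸ B₀ // q • a = 0})
        have := hq.two_le
        omega
      have hao : addOrderOf (a : M ⧸ B₀) = q := (addOrderOf_eq_prime_iff (hp := ⟨hq⟩)).2 ⟨a.2, ha⟩
      have hqdvd : q ∣ B₀.index := by rw [← hao, AddSubgroup.index_eq_card]; exact addOrderOf_dvd_natCard _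
      obtain ⟨b, hb⟩ : ∃ b : {a : M ⧸ B₀ // q • a = 0}, (b : M ⧸ B₀) ∉ AddSubgroup.zmultiples (a : M ⧸ B₀) := by
        by_contra hcon
        have hle : ∀ b : {a : M ⧸ B₀ // q • a = 0}, (b : M ⧸ B₀) ∈ AddSubgroup.zmultiples (a : M ⧸ B₀) :=
          fun b => not_not.1 fun hh => hcon ⟨b, hh⟩
        have h1 := Nat.card_le_card_of_injective
          (fun b : {a : M ⧸ B₀ // q • a = 0} => (⟨b.1, hle b⟩ : AddSubgroup.zmultiples (a : M ⧸ B₀)))
          fun u v huv => Subtype.ext (congrArg (fun z : AddSubgroup.zmultiples (a : M ⧸ B₀) => (z : M ⧸ B₀)) huv)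
        rw [Nat.card_zmultiples, hao] at h1
        omega
      obtain ⟨x, hx⟩ := QuotientAddGroup.mk_surjective (a : M ⧸ B₀)
      obtain ⟨x', hx'⟩ := QuotientAddGroup.mk_surjective (b : M ⧸ B₀)
      set s := el Λ (a : M ⧸ B₀)
      set t := el Λ (b : M ⧸ B₀)
      have hline : ∀ k : ℕ, (∑ j ∈ Finset.range q, (s * t ^ k) ^ j) * z = 0 := fun k => by
        have h := hup (x + k • x') q (by
          rw [← QuotientAddGroup.eq_zero_iff, QuotientAddGroup.mk_nsmul, QuotientAddGroup.mk_add, QuotientAddGroup.mk_nsmul,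
            hx, hx', nsmul_add, a.2, ← mul_nsmul', mul_comm, mul_nsmul', b.2, nsmul_zero, add_zero]) (fun hh => by
          rw [← QuotientAddGroup.eq_zero_iff, QuotientAddGroup.mk_add, QuotientAddGroup.mk_nsmul, hx, hx'] at hh
          rcases Nat.eq_zero_or_pos (k % q) with hk | hk
          · obtain ⟨c, hc'⟩ := Nat.dvd_of_mod_eq_zero hk
            rw [hc', mul_comm, mul_nsmul', b.2, nsmul_zero, add_zero] at hh
            exact ha hh
          · refine hb ?_
            obtain ⟨m, hm⟩ : ∃ m : ℕ, k * m % q = 1 := by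
              obtain ⟨m, hm⟩ := Nat.exists_mul_mod_eq_one_of_coprime (((Nat.Prime.coprime_iff_not_dvd hq).2 fun hd => by
                have := Nat.mod_eq_zero_of_dvd hd; omega).symm : k.Coprime q) hq.one_lt
              exact ⟨m, hm.2⟩
            have hb1 : (b : M ⧸ B₀) = m • (k • (b : M ⧸ B₀)) := by
              rw [← mul_nsmul', mul_comm, ← Nat.mod_add_div (k * m) q, hm, add_nsmul, one_nsmul, mul_comm q, mul_nsmul', b.2,
                nsmul_zero, add_zero]
            rw [hb1]
            refine AddSubgroup.nsmul_mem _ ?_ m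
            have : k • (b : M ⧸ B₀) = -(a : M ⧸ B₀) := eq_neg_of_add_eq_zero_right hh
            rw [this]
            exact neg_mem (AddSubgroup.mem_zmultiples _))
        rwa [QuotientAddGroup.mk_add, QuotientAddGroup.mk_nsmul, hx, hx', ← el_mul, ← el_pow] at h
      have ht0 : (∑ l ∈ Finset.range q, t ^ l) * z = 0 := by
        have h := hup x' q (by rw [← QuotientAddGroup.eq_zero_iff, QuotientAddGroup.mk_nsmul, hx']; exact b.2)
          (fun hh => hb (by rw [← hx', (QuotientAddGroup.eq_zero_iff x').2 hh]; exact zero_mem _))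
        rwa [hx'] at h
      have htq : t ^ q = 1 := by rw [el_pow, b.2, el_zero]
      -- sum over the lines
      have hperm : ∀ j, 0 < j → j < q → ∑ k ∈ Finset.range q, t ^ (j * k) = ∑ l ∈ Finset.range q, t ^ l := fun j hj hjq => by
        have hmod : ∀ i, t ^ i = t ^ (i % q) := fun i => by
          conv_lhs => rw [← Nat.mod_add_div i q, pow_add, pow_mul, htq, one_pow, mul_one]
        have hinj : ∀ k₁ ∈ Finset.range q, ∀ k₂ ∈ Finset.range q, j * k₁ % q = j * k₂ % q → k₁ = k₂ := fun k₁ h₁ k₂ h₂ he => by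
          have hco : Nat.gcd q j = 1 := (Nat.Prime.coprime_iff_not_dvd hq).2 (Nat.not_dvd_of_pos_of_lt hj hjq)
          exact Nat.ModEq.eq_of_lt_of_lt (Nat.ModEq.cancel_left_of_coprime hco he) (Finset.mem_range.1 h₁) (Finset.mem_range.1 h₂)
        have himg : (Finset.range q).image (fun k => j * k % q) = Finset.range q :=
          Finset.eq_of_subset_of_card_le (fun i hi => by
            obtain ⟨k, _, rfl⟩ := Finset.mem_image.1 hi
            exact Finset.mem_range.2 (Nat.mod_lt _ hq.pos))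
            (by rw [Finset.card_image_of_injOn (fun a ha b hb hab => hinj a ha b hb hab)])
        conv_rhs => rw [← himg, Finset.sum_image hinj]
        exact Finset.sum_congr rfl fun k _ => hmod _
      have hswap : ∑ k ∈ Finset.range q, ∑ j ∈ Finset.range q, (s * t ^ k) ^ j
          = (q : AddMonoidAlgebra Λ (M ⧸ B₀)) + (∑ j ∈ (Finset.range q).erase 0, s ^ j) * ∑ l ∈ Finset.range q, t ^ l := by
        rw [Finset.sum_comm, ← Finset.add_sum_erase _ _ (Finset.mem_range.2 hq.pos), Finset.sum_mul]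
        refine congrArg₂ (· + ·) ?_ (Finset.sum_congr rfl fun j hj => ?_)
        · simp only [pow_zero]
          rw [Finset.sum_const, Finset.card_range, nsmul_one]
        · rw [← hperm j (Nat.pos_of_ne_zero (Finset.mem_erase.1 hj).1) (Finset.mem_range.1 (Finset.mem_erase.1 hj).2), Finset.mul_sum]
          refine Finset.sum_congr rfl fun k _ => ?_
          rw [mul_pow, ← pow_mul, mul_comm k j]
      have h1 : (∑ k ∈ Finset.range q, ∑ j ∈ Finset.range q, (s * t ^ k) ^ j) * z = 0 := by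
        rw [Finset.sum_mul]; exact Finset.sum_eq_zero fun k _ => hline k
      rw [hswap, add_mul, mul_assoc, ht0, mul_zero, add_zero] at h1
      exact (hprime q hq hqdvd).mul_right_eq_zero.1 h1

/-- the joint map to the cyclotomic quotients is surjective -/
theorem exists_preimage (B₀ : AddSubgroup M) [B₀.FiniteIndex] (hu : IsUnit ((B₀.index : ℕ) : Λ))
    (y : ∀ B : {B : AddSubgroup M // B₀ ≤ B ∧ IsAddCyclic (M ⧸ B)}, CycQuot Λ (M ⧸ B.1)) :
    ∃ x, ∀ B, cycQuotMap Λ M B.1 x = y B := by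
  classical
  haveI hfin : Finite {B : AddSubgroup M // B₀ ≤ B ∧ IsAddCyclic (M ⧸ B)} := by
    refine Finite.of_injective (fun B => B.1.map (QuotientAddGroup.mk' B₀)) fun B B' h => Subtype.ext ?_
    have h' := congrArg (AddSubgroup.comap (QuotientAddGroup.mk' B₀)) h
    simpa [AddSubgroup.comap_map_eq, B.2.1, B'.2.1] using h'
  haveI := Fintype.ofFinite {B : AddSubgroup M // B₀ ≤ B ∧ IsAddCyclic (M ⧸ B)}
  have hB : ∀ B : {B : AddSubgroup M // B₀ ≤ B ∧ IsAddCyclic (M ⧸ B)}, B.1.FiniteIndex ∧ IsUnit ((B.1.index : ℕ) : Λ) :=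
    fun B => ⟨AddSubgroup.finiteIndex_of_le B.2.1, isUnit_of_dvd_unit (Nat.cast_dvd_cast (AddSubgroup.index_dvd_of_le B.2.1)) hu⟩
  have hsep : ∀ B B' : {B : AddSubgroup M // B₀ ≤ B ∧ IsAddCyclic (M ⧸ B)}, B' ≠ B →
      ∃ s, cycQuotMap Λ M B.1 s = 1 ∧ cycQuotMap Λ M B'.1 s = 0 := fun B B' hne => by
    haveI := (hB B).1
    haveI := (hB B').1
    haveI := B.2.2
    haveI := B'.2.2
    exact exists_loc_annihilator Λ B'.1 B.1 (fun h => hne (Subtype.ext h)) (hB B').2 (hB B).2
  choose s hs hs' using hsep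
  let f : {B : AddSubgroup M // B₀ ≤ B ∧ IsAddCyclic (M ⧸ B)} → AddMonoidAlgebra Λ M := fun B =>
    ∏ B', if h : B' ≠ B then s B B' h else 1
  have hfun : ∀ B, ∃ x, cycQuotMap Λ M B.1 x = y B := fun B => by
    obtain ⟨w, hw⟩ := Ideal.Quotient.mk_surjective (y B)
    obtain ⟨x, hx⟩ := quotMap_surjective Λ M B.1 w
    exact ⟨x, by rw [cycQuotMap, RingHom.comp_apply, hx, hw]⟩
  choose xs hxs using hfun
  refine ⟨∑ B, f B * xs B, fun B => ?_⟩
  rw [map_sum, Fintype.sum_eq_single B]
  · rw [map_mul, hxs, map_prod, Finset.prod_eq_one, one_mul]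
    intro B' _
    split_ifs with h
    · exact hs B B' h
    · exact map_one _
  · intro B' hne
    rw [map_mul, map_prod, Finset.prod_eq_zero (Finset.mem_univ B), zero_mul]
    rw [dif_pos hne.symm]
    exact hs' B' B hne.symm

/-- `Λ[M]` acts on the localisation of `N` at `S_B` by elements invertible there -/
theorem subsingleton_loc {N : Type*} [AddCommGroup N] [Module (AddMonoidAlgebra Λ M) N] (B : AddSubgroup M)
    {s : AddMonoidAlgebra Λ M} (hs : cycQuotMap Λ M B s = 1) (h : ∀ n : N, s • n = 0) :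
    Subsingleton (LocalizedModule (locSubmonoid Λ M B) N) := by
  refine LocalizedModule.subsingleton_iff.2 fun n => ?_
  exact ⟨s, hs, h n⟩

theorem loc_bijective (B₀ : AddSubgroup M) [B₀.FiniteIndex] (hu : IsUnit ((B₀.index : ℕ) : Λ)) :
    Function.Bijective (LinearMap.pi (R := AddMonoidAlgebra Λ M)
      fun B : {B : AddSubgroup M // B₀ ≤ B ∧ IsAddCyclic (M ⧸ B)} =>
        LocalizedModule.mkLinearMap (locSubmonoid Λ M B.1) (AddMonoidAlgebra Λ (M ⧸ B₀))) := by
  classical
  have hle : ∀ {B : AddSubgroup M}, B₀ ≤ B → ∀ {a b : AddMonoidAlgebra Λ M},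
      quotMap Λ M B₀ a = quotMap Λ M B₀ b → cycQuotMap Λ M B a = cycQuotMap Λ M B b := fun {B} hB {a b} h => by
    refine cycQuotMap_eq_of_quotMap_eq Λ ?_
    have hcomp : ∀ z, quotMap Λ M B z
        = AddMonoidAlgebra.mapDomainRingHom Λ (QuotientAddGroup.map B₀ B (AddMonoidHom.id M) hB) (quotMap Λ M B₀ z) := fun z => by
      induction z using AddMonoidAlgebra.induction_linear with
      | zero => simp
      | add a b ha hb => simp only [map_add, ha, hb]
      | single a r =>
        rw [quotMap, quotMap]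
        simp only [AddMonoidAlgebra.mapDomainRingHom_apply, AddMonoidAlgebra.mapDomain_single]
        rfl
    rw [hcomp, hcomp, h]
  -- an element killed at `B` is killed by a member of the submonoid
  have hkill : ∀ (B : {B : AddSubgroup M // B₀ ≤ B ∧ IsAddCyclic (M ⧸ B)}) (a : AddMonoidAlgebra Λ M),
      cycQuotMap Λ M B.1 a = 0 → ∃ s ∈ locSubmonoid Λ M B.1, quotMap Λ M B₀ (s * a) = 0 := fun B a ha => by
    obtain ⟨s, hs⟩ := exists_preimage Λ B₀ hu fun B' => if B' = B then 1 else 0
    refine ⟨s, (hs B).trans (if_pos rfl), quotMap_eq_zero Λ B₀ hu _ fun B' hB' hc => ?_⟩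
    rw [map_mul, hs ⟨B', hB', hc⟩]
    split_ifs with h
    · subst h; rw [one_mul]; exact ha
    · rw [zero_mul]
  constructor
  · refine (injective_iff_map_eq_zero _).2 fun z hz => ?_
    obtain ⟨a, rfl⟩ := quotMap_surjective Λ M B₀ z
    refine quotMap_eq_zero Λ B₀ hu a fun B hB hc => ?_
    have h := congrFun hz ⟨B, hB, hc⟩
    rw [LinearMap.pi_apply, Pi.zero_apply, LocalizedModule.mkLinearMap_apply, ← LocalizedModule.zero_mk (1 : locSubmonoid Λ M B),
      LocalizedModule.mk_eq] at h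
    obtain ⟨⟨s, hs⟩, hs'⟩ := h
    simp only [Submonoid.smul_def, OneMemClass.coe_one, one_smul, smul_zero] at hs'
    have h2 : quotMap Λ M B₀ (s * a) = quotMap Λ M B₀ 0 := by rw [map_mul, map_zero]; exact hs'
    have h3 := hle hB h2
    rw [map_mul, map_zero, (hs : cycQuotMap Λ M B s = 1), one_mul] at h3
    exact h3
  · intro w
    have hrep : ∀ B : {B : AddSubgroup M // B₀ ≤ B ∧ IsAddCyclic (M ⧸ B)}, ∃ a : AddMonoidAlgebra Λ M,
        w B = LocalizedModule.mk (quotMap Λ M B₀ a) 1 := fun B => by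
      obtain ⟨⟨z, ⟨t, ht⟩⟩, hz⟩ : ∃ q : AddMonoidAlgebra Λ (M ⧸ B₀) × locSubmonoid Λ M B.1, w B = LocalizedModule.mk q.1 q.2 := by
        induction w B using LocalizedModule.induction_on with
        | _ m s => exact ⟨(m, s), rfl⟩
      obtain ⟨a, rfl⟩ := quotMap_surjective Λ M B₀ z
      refine ⟨a, hz.trans (LocalizedModule.mk_eq.2 ?_)⟩
      obtain ⟨s, hs, hs'⟩ := hkill B (a - t * a) (by rw [map_sub, map_mul, (ht : cycQuotMap Λ M B.1 t = 1), one_mul, sub_self])
      refine ⟨⟨s, hs⟩, ?_⟩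
      rw [mul_sub, map_sub, sub_eq_zero, map_mul, map_mul, map_mul] at hs'
      simp only [Submonoid.smul_def, OneMemClass.coe_one, one_smul]
      exact hs'
    choose a ha using hrep
    obtain ⟨x, hx⟩ := exists_preimage Λ B₀ hu fun B => cycQuotMap Λ M B.1 (a B)
    refine ⟨quotMap Λ M B₀ x, funext fun B => ?_⟩
    rw [LinearMap.pi_apply, LocalizedModule.mkLinearMap_apply, ha, LocalizedModule.mk_eq]
    obtain ⟨s, hs, hs'⟩ := hkill B (x - a B) (by rw [map_sub, hx B, sub_self])
    refine ⟨⟨s, hs⟩, ?_⟩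
    rw [mul_sub, map_sub, sub_eq_zero, map_mul, map_mul] at hs'
    simp only [Submonoid.smul_def, OneMemClass.coe_one, one_smul]
    exact hs'

theorem pi_bijective (A : Type v) [AddCommGroup A] [Finite A] (hA : IsUnit ((Nat.card A : ℕ) : Λ)) :
    Function.Bijective (RingHom.pi fun B : {B : AddSubgroup A // IsAddCyclic (A ⧸ B)} => cycQuotMap Λ A B.1) := by
  haveI : (⊥ : AddSubgroup A).FiniteIndex := AddSubgroup.finiteIndex_of_finite_quotient
  have hi : IsUnit (((⊥ : AddSubgroup A).index : ℕ) : Λ) := by rwa [AddSubgroup.index_bot]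
  refine ⟨(injective_iff_map_eq_zero _).2 fun x hx => ?_, fun y => ?_⟩
  · have h := quotMap_eq_zero Λ (⊥ : AddSubgroup A) hi x fun B _ hc => congrFun hx ⟨B, hc⟩
    exact AddMonoidAlgebra.mapDomain_injective (fun a b hab => by simpa [QuotientAddGroup.eq, neg_add_eq_zero] using hab)
      (h.trans (map_zero (quotMap Λ A ⊥)).symm)
  · obtain ⟨x, hx⟩ := exists_preimage Λ (⊥ : AddSubgroup A) hi fun B => y ⟨B.1, B.2.2⟩
    exact ⟨x, funext fun B => hx ⟨B.1, bot_le, B.2⟩⟩

end GrothLib.GrpAlgCyc
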